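import Cfsg.Agent.Lib.CosetEnum.Fi23x31671.Data

/-! Checks of the certificate. -/

set_option autoImplicit false
set_option maxRecDepth 20000
set_option Elab.async false

namespace Cfsg.Agent.Lib.CosetEnum.Fi23x31671

open Cfsg.Agent.Lib.CosetEnum

theorem edges_part2 : allFrom 8000 4000 (edgeAt data 211452 31671 table vert edge) = true := by decide +kernel

theorem edges_part3 : allFrom 12000 4000 (edgeAt data 211452 31671 table vert edge) = true := by decide +kernel

theorem edges_part4 : allFrom 16000 4000 (edgeAt data 211452 31671 table vert edge) = true := by decide +kernel

theorem edges_part5 : allFrom 20000 4000 (edgeAt data 211452 31671 table vert edge) = true := by decide +kernel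

theorem edges_part6 : allFrom 24000 4000 (edgeAt data 211452 31671 table vert edge) = true := by decide +kernel

theorem edges_part7 : allFrom 28000 3671 (edgeAt data 211452 31671 table vert edge) = true := by decide +kernel

end Cfsg.Agent.Lib.CosetEnum.Fi23x31671
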