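import Cfsg.Agent.Lib.CosetEnum.Fi23x31671.Data

/-! Checks of the certificate. -/

set_option autoImplicit false
set_option maxRecDepth 20000
set_option Elab.async false

namespace Cfsg.Agent.Lib.CosetEnum.Fi23x31671

open Cfsg.Agent.Lib.CosetEnum

theorem perm_part0 : allFrom 0 6000 (permAt letters.K letters.IV 31671 table) = true := by decide +kernel

theorem perm_part1 : allFrom 6000 6000 (permAt letters.K letters.IV 31671 table) = true := by decide +kernel

theorem perm_part2 : allFrom 12000 6000 (permAt letters.K letters.IV 31671 table) = true := by decide +kernel

theorem perm_part3 : allFrom 18000 6000 (permAt letters.K letters.IV 31671 table) = true := by decide +kernel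

theorem perm_part4 : allFrom 24000 6000 (permAt letters.K letters.IV 31671 table) = true := by decide +kernel

theorem perm_part5 : allFrom 30000 1671 (permAt letters.K letters.IV 31671 table) = true := by decide +kernel

end Cfsg.Agent.Lib.CosetEnum.Fi23x31671
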