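import Cfsg.Agent.Lib.CosetEnum.Fi23x31671.Data

/-! Checks of the certificate. -/

set_option autoImplicit false
set_option maxRecDepth 20000
set_option Elab.async false

namespace Cfsg.Agent.Lib.CosetEnum.Fi23x31671

open Cfsg.Agent.Lib.CosetEnum

theorem rels_part0 : allFrom 0 323 (relAt letters.K table letters.RL) = true := by decide +kernel

theorem rels_part1 : allFrom 323 323 (relAt letters.K table letters.RL) = true := by decide +kernel

theorem rels_part2 : allFrom 646 323 (relAt letters.K table letters.RL) = true := by decide +kernel

theorem rels_part3 : allFrom 969 323 (relAt letters.K table letters.RL) = true := by decide +kernel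

theorem rels_part4 : allFrom 1292 323 (relAt letters.K table letters.RL) = true := by decide +kernel

theorem rels_part5 : allFrom 1615 323 (relAt letters.K table letters.RL) = true := by decide +kernel

end Cfsg.Agent.Lib.CosetEnum.Fi23x31671
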