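import Cfsg.Agent.Lib.CosetEnum.Fi23x31671.Data

/-! Checks of the certificate. -/

set_option autoImplicit false
set_option maxRecDepth 20000
set_option Elab.async false

namespace Cfsg.Agent.Lib.CosetEnum.Fi23x31671

open Cfsg.Agent.Lib.CosetEnum

theorem rels_part18 : allFrom 5814 323 (relAt letters.K table letters.RL) = true := by decide +kernel

theorem rels_part19 : allFrom 6137 323 (relAt letters.K table letters.RL) = true := by decide +kernel

theorem rels_part20 : allFrom 6460 323 (relAt letters.K table letters.RL) = true := by decide +kernel

theorem rels_part21 : allFrom 6783 323 (relAt letters.K table letters.RL) = true := by decide +kernel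

theorem rels_part22 : allFrom 7106 323 (relAt letters.K table letters.RL) = true := by decide +kernel

theorem rels_part23 : allFrom 7429 323 (relAt letters.K table letters.RL) = true := by decide +kernel

end Cfsg.Agent.Lib.CosetEnum.Fi23x31671
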