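import Cfsg.Agent.Lib.CosetEnum.Fi23x31671.Data

/-! Checks of the certificate. -/

set_option autoImplicit false
set_option maxRecDepth 20000
set_option Elab.async false

namespace Cfsg.Agent.Lib.CosetEnum.Fi23x31671

open Cfsg.Agent.Lib.CosetEnum

theorem rels_part36 : allFrom 11628 323 (relAt letters.K table letters.RL) = true := by decide +kernel

theorem rels_part37 : allFrom 11951 323 (relAt letters.K table letters.RL) = true := by decide +kernel

theorem rels_part38 : allFrom 12274 323 (relAt letters.K table letters.RL) = true := by decide +kernel

theorem rels_part39 : allFrom 12597 323 (relAt letters.K table letters.RL) = true := by decide +kernel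

theorem rels_part40 : allFrom 12920 323 (relAt letters.K table letters.RL) = true := by decide +kernel

theorem rels_part41 : allFrom 13243 323 (relAt letters.K table letters.RL) = true := by decide +kernel

end Cfsg.Agent.Lib.CosetEnum.Fi23x31671
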