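import Cfsg.Agent.Lib.CosetEnum.Fi23x31671.Data

/-! Checks of the certificate. -/

set_option autoImplicit false
set_option maxRecDepth 20000
set_option Elab.async false

namespace Cfsg.Agent.Lib.CosetEnum.Fi23x31671

open Cfsg.Agent.Lib.CosetEnum

theorem rels_part42 : allFrom 13566 323 (relAt letters.K table letters.RL) = true := by decide +kernel

theorem rels_part43 : allFrom 13889 323 (relAt letters.K table letters.RL) = true := by decide +kernel

theorem rels_part44 : allFrom 14212 323 (relAt letters.K table letters.RL) = true := by decide +kernel

theorem rels_part45 : allFrom 14535 323 (relAt letters.K table letters.RL) = true := by decide +kernel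

theorem rels_part46 : allFrom 14858 323 (relAt letters.K table letters.RL) = true := by decide +kernel

theorem rels_part47 : allFrom 15181 323 (relAt letters.K table letters.RL) = true := by decide +kernel

end Cfsg.Agent.Lib.CosetEnum.Fi23x31671
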