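import Cfsg.Agent.Lib.CosetEnum.Fi23x31671.Data

/-! Checks of the certificate. -/

set_option autoImplicit false
set_option maxRecDepth 20000
set_option Elab.async false

namespace Cfsg.Agent.Lib.CosetEnum.Fi23x31671

open Cfsg.Agent.Lib.CosetEnum

theorem rels_part54 : allFrom 17442 323 (relAt letters.K table letters.RL) = true := by decide +kernel

theorem rels_part55 : allFrom 17765 323 (relAt letters.K table letters.RL) = true := by decide +kernel

theorem rels_part56 : allFrom 18088 323 (relAt letters.K table letters.RL) = true := by decide +kernel

theorem rels_part57 : allFrom 18411 323 (relAt letters.K table letters.RL) = true := by decide +kernel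

theorem rels_part58 : allFrom 18734 323 (relAt letters.K table letters.RL) = true := by decide +kernel

theorem rels_part59 : allFrom 19057 323 (relAt letters.K table letters.RL) = true := by decide +kernel

end Cfsg.Agent.Lib.CosetEnum.Fi23x31671
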