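import Cfsg.Agent.Lib.CosetEnum.Fi23x31671.Data

/-! Checks of the certificate. -/

set_option autoImplicit false
set_option maxRecDepth 20000
set_option Elab.async false

namespace Cfsg.Agent.Lib.CosetEnum.Fi23x31671

open Cfsg.Agent.Lib.CosetEnum

theorem rels_part90 : allFrom 29070 323 (relAt letters.K table letters.RL) = true := by decide +kernel

theorem rels_part91 : allFrom 29393 323 (relAt letters.K table letters.RL) = true := by decide +kernel

theorem rels_part92 : allFrom 29716 323 (relAt letters.K table letters.RL) = true := by decide +kernel

theorem rels_part93 : allFrom 30039 323 (relAt letters.K table letters.RL) = true := by decide +kernel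

theorem rels_part94 : allFrom 30362 323 (relAt letters.K table letters.RL) = true := by decide +kernel

theorem rels_part95 : allFrom 30685 323 (relAt letters.K table letters.RL) = true := by decide +kernel

end Cfsg.Agent.Lib.CosetEnum.Fi23x31671
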