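import Cfsg.Agent.Lib.CosetEnum.Fi23x31671.Check0
import Cfsg.Agent.Lib.CosetEnum.Fi23x31671.Check1
import Cfsg.Agent.Lib.CosetEnum.Fi23x31671.Check2
import Cfsg.Agent.Lib.CosetEnum.Fi23x31671.Check3
import Cfsg.Agent.Lib.CosetEnum.Fi23x31671.Check4
import Cfsg.Agent.Lib.CosetEnum.Fi23x31671.Check5
import Cfsg.Agent.Lib.CosetEnum.Fi23x31671.Check6
import Cfsg.Agent.Lib.CosetEnum.Fi23x31671.Check7
import Cfsg.Agent.Lib.CosetEnum.Fi23x31671.Check8
import Cfsg.Agent.Lib.CosetEnum.Fi23x31671.Check9
import Cfsg.Agent.Lib.CosetEnum.Fi23x31671.Check10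
import Cfsg.Agent.Lib.CosetEnum.Fi23x31671.Check11
import Cfsg.Agent.Lib.CosetEnum.Fi23x31671.Check12
import Cfsg.Agent.Lib.CosetEnum.Fi23x31671.Check13
import Cfsg.Agent.Lib.CosetEnum.Fi23x31671.Check14
import Cfsg.Agent.Lib.CosetEnum.Fi23x31671.Check15
import Cfsg.Agent.Lib.CosetEnum.Fi23x31671.Check16
import Cfsg.Agent.Lib.CosetEnum.Fi23x31671.Check17
import Cfsg.Agent.Lib.CosetEnum.Fi23x31671.Check18
import Cfsg.Agent.Lib.CosetEnum.Fi23x31671.Check19
import Cfsg.Agent.Lib.CosetEnum.Fi23x31671.Check20
import Cfsg.Agent.Lib.CosetEnum.Fi23x31671.Check21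
import Cfsg.Agent.Lib.CosetEnum.Fi23x31671.Check22
import Cfsg.Agent.Lib.CosetEnum.Fi23x31671.Check23
import Cfsg.Agent.Lib.CosetEnum.Fi23x31671.Check24
import Cfsg.Agent.Lib.CosetEnum.Fi23x31671.Check25
import Cfsg.Agent.Lib.CosetEnum.Fi23x31671.Check26
import Cfsg.Agent.Lib.CosetEnum.Fi23x31671.Check27
import Cfsg.Agent.Lib.CosetEnum.Fi23x31671.Check28
import Cfsg.Agent.Lib.CosetEnum.Fi23x31671.Check29
import Cfsg.Agent.Lib.CosetEnum.Fi23x31671.Check30
import Cfsg.Agent.Lib.CosetEnum.Fi23x31671.Check31
import Cfsg.Agent.Lib.CosetEnum.Fi23x31671.Check32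
import Cfsg.Agent.Lib.CosetEnum.Fi23x31671.Check33
import Cfsg.Agent.Lib.CosetEnum.Fi23x31671.Check34
import Cfsg.Agent.Lib.CosetEnum.Fi23x31671.Check35
import Cfsg.Agent.Lib.CosetEnum.Fi23x31671.Check36
import Cfsg.Agent.Lib.CosetEnum.Fi23x31671.Data

/-! Checks of the certificate. -/

set_option autoImplicit false
set_option maxRecDepth 20000
set_option Elab.async false

namespace Cfsg.Agent.Lib.CosetEnum.Fi23x31671

open Cfsg.Agent.Lib.CosetEnum

theorem defs_ok : defsOK data 41896 = true := by decide +kernel

theorem edges_ok : edgesOK data 211452 31671 table vert edge = true :=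
  (allBelow_add (allBelow_add (allBelow_add (allBelow_add (allBelow_add (allBelow_add (allBelow_add (allBelow_add (rfl : allBelow 0 (edgeAt data 211452 31671 table vert edge) = true) edges_part0
    (by omega : 0 + 4000 = 4000)) edges_part1
    (by omega : 4000 + 4000 = 8000)) edges_part2
    (by omega : 8000 + 4000 = 12000)) edges_part3
    (by omega : 12000 + 4000 = 16000)) edges_part4
    (by omega : 16000 + 4000 = 20000)) edges_part5
    (by omega : 20000 + 4000 = 24000)) edges_part6
    (by omega : 24000 + 4000 = 28000)) edges_part7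
    (by omega : 28000 + 3671 = 31671))

theorem perm_ok : permOK letters.K letters.IV 31671 table = true :=
  (allBelow_add (allBelow_add (allBelow_add (allBelow_add (allBelow_add (allBelow_add (rfl : allBelow 0 (permAt letters.K letters.IV 31671 table) = true) perm_part0
    (by omega : 0 + 6000 = 6000)) perm_part1
    (by omega : 6000 + 6000 = 12000)) perm_part2
    (by omega : 12000 + 6000 = 18000)) perm_part3
    (by omega : 18000 + 6000 = 24000)) perm_part4
    (by omega : 24000 + 6000 = 30000)) perm_part5
    (by omega : 30000 + 1671 = 31671))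

theorem rels_ok : relsOK letters.K 31671 table letters.RL = true :=
  (allBelow_add (allBelow_add (allBelow_add (allBelow_add (allBelow_add (allBelow_add (allBelow_add (allBelow_add (allBelow_add (allBelow_add (allBelow_add (allBelow_add (allBelow_add (allBelow_add (allBelow_add (allBelow_add (allBelow_add (allBelow_add (allBelow_add (allBelow_add (allBelow_add (allBelow_add (allBelow_add (allBelow_add (allBelow_add (allBelow_add (allBelow_add (allBelow_add (allBelow_add (allBelow_add (allBelow_add (allBelow_add (allBelow_add (allBelow_add (allBelow_add (allBelow_add (allBelow_add (allBelow_add (allBelow_add (allBelow_add (allBelow_add (allBelow_add (allBelow_add (allBelow_add (allBelow_add (allBelow_add (allBelow_add (allBelow_add (allBelow_add (allBelow_add (allBelow_add (allBelow_add (allBelow_add (allBelow_add (allBelow_add (allBelow_add (allBelow_add (allBelow_add (allBelow_add (allBelow_add (allBelow_add (allBelow_add (allBelow_add (allBelow_add (allBelow_add (allBelow_add (allBelow_add (allBelow_add (allBelow_add (allBelow_add (allBelow_add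 (allBelow_add (allBelow_add (allBelow_add (allBelow_add (allBelow_add (allBelow_add (allBelow_add (allBelow_add (allBelow_add (allBelow_add (allBelow_add (allBelow_add (allBelow_add (allBelow_add (allBelow_add (allBelow_add (allBelow_add (allBelow_add (allBelow_add (allBelow_add (allBelow_add (allBelow_add (allBelow_add (allBelow_add (allBelow_add (allBelow_add (allBelow_add (allBelow_add (rfl : allBelow 0 (relAt letters.K table letters.RL) = true) rels_part0
    (by omega : 0 + 323 = 323)) rels_part1
    (by omega : 323 + 323 = 646)) rels_part2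
    (by omega : 646 + 323 = 969)) rels_part3
    (by omega : 969 + 323 = 1292)) rels_part4
    (by omega : 1292 + 323 = 1615)) rels_part5
    (by omega : 1615 + 323 = 1938)) rels_part6
    (by omega : 1938 + 323 = 2261)) rels_part7
    (by omega : 2261 + 323 = 2584)) rels_part8
    (by omega : 2584 + 323 = 2907)) rels_part9
    (by omega : 2907 + 323 = 3230)) rels_part10
    (by omega : 3230 + 323 = 3553)) rels_part11
    (by omega : 3553 + 323 = 3876)) rels_part12
    (by omega : 3876 + 323 = 4199)) rels_part13
    (by omega : 4199 + 323 = 4522)) rels_part14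
    (by omega : 4522 + 323 = 4845)) rels_part15
    (by omega : 4845 + 323 = 5168)) rels_part16
    (by omega : 5168 + 323 = 5491)) rels_part17
    (by omega : 5491 + 323 = 5814)) rels_part18
    (by omega : 5814 + 323 = 6137)) rels_part19
    (by omega : 6137 + 323 = 6460)) rels_part20
    (by omega : 6460 + 323 = 6783)) rels_part21
    (by omega : 6783 + 323 = 7106)) rels_part22
    (by omega : 7106 + 323 = 7429)) rels_part23
    (by omega : 7429 + 323 = 7752)) rels_part24
    (by omega : 7752 + 323 = 8075)) rels_part25
    (by omega : 8075 + 323 = 8398)) rels_part26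
    (by omega : 8398 + 323 = 8721)) rels_part27
    (by omega : 8721 + 323 = 9044)) rels_part28
    (by omega : 9044 + 323 = 9367)) rels_part29
    (by omega : 9367 + 323 = 9690)) rels_part30
    (by omega : 9690 + 323 = 10013)) rels_part31
    (by omega : 10013 + 323 = 10336)) rels_part32
    (by omega : 10336 + 323 = 10659)) rels_part33
    (by omega : 10659 + 323 = 10982)) rels_part34
    (by omega : 10982 + 323 = 11305)) rels_part35
    (by omega : 11305 + 323 = 11628)) rels_part36
    (by omega : 11628 + 323 = 11951)) rels_part37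
    (by omega : 11951 + 323 = 12274)) rels_part38
    (by omega : 12274 + 323 = 12597)) rels_part39
    (by omega : 12597 + 323 = 12920)) rels_part40
    (by omega : 12920 + 323 = 13243)) rels_part41
    (by omega : 13243 + 323 = 13566)) rels_part42
    (by omega : 13566 + 323 = 13889)) rels_part43
    (by omega : 13889 + 323 = 14212)) rels_part44
    (by omega : 14212 + 323 = 14535)) rels_part45
    (by omega : 14535 + 323 = 14858)) rels_part46
    (by omega : 14858 + 323 = 15181)) rels_part47
    (by omega : 15181 + 323 = 15504)) rels_part48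
    (by omega : 15504 + 323 = 15827)) rels_part49
    (by omega : 15827 + 323 = 16150)) rels_part50
    (by omega : 16150 + 323 = 16473)) rels_part51
    (by omega : 16473 + 323 = 16796)) rels_part52
    (by omega : 16796 + 323 = 17119)) rels_part53
    (by omega : 17119 + 323 = 17442)) rels_part54
    (by omega : 17442 + 323 = 17765)) rels_part55
    (by omega : 17765 + 323 = 18088)) rels_part56
    (by omega : 18088 + 323 = 18411)) rels_part57
    (by omega : 18411 + 323 = 18734)) rels_part58
    (by omega : 18734 + 323 = 19057)) rels_part59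
    (by omega : 19057 + 323 = 19380)) rels_part60
    (by omega : 19380 + 323 = 19703)) rels_part61
    (by omega : 19703 + 323 = 20026)) rels_part62
    (by omega : 20026 + 323 = 20349)) rels_part63
    (by omega : 20349 + 323 = 20672)) rels_part64
    (by omega : 20672 + 323 = 20995)) rels_part65
    (by omega : 20995 + 323 = 21318)) rels_part66
    (by omega : 21318 + 323 = 21641)) rels_part67
    (by omega : 21641 + 323 = 21964)) rels_part68
    (by omega : 21964 + 323 = 22287)) rels_part69
    (by omega : 22287 + 323 = 22610)) rels_part70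
    (by omega : 22610 + 323 = 22933)) rels_part71
    (by omega : 22933 + 323 = 23256)) rels_part72
    (by omega : 23256 + 323 = 23579)) rels_part73
    (by omega : 23579 + 323 = 23902)) rels_part74
    (by omega : 23902 + 323 = 24225)) rels_part75
    (by omega : 24225 + 323 = 24548)) rels_part76
    (by omega : 24548 + 323 = 24871)) rels_part77
    (by omega : 24871 + 323 = 25194)) rels_part78
    (by omega : 25194 + 323 = 25517)) rels_part79
    (by omega : 25517 + 323 = 25840)) rels_part80
    (by omega : 25840 + 323 = 26163)) rels_part81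
    (by omega : 26163 + 323 = 26486)) rels_part82
    (by omega : 26486 + 323 = 26809)) rels_part83
    (by omega : 26809 + 323 = 27132)) rels_part84
    (by omega : 27132 + 323 = 27455)) rels_part85
    (by omega : 27455 + 323 = 27778)) rels_part86
    (by omega : 27778 + 323 = 28101)) rels_part87
    (by omega : 28101 + 323 = 28424)) rels_part88
    (by omega : 28424 + 323 = 28747)) rels_part89
    (by omega : 28747 + 323 = 29070)) rels_part90
    (by omega : 29070 + 323 = 29393)) rels_part91
    (by omega : 29393 + 323 = 29716)) rels_part92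
    (by omega : 29716 + 323 = 30039)) rels_part93
    (by omega : 30039 + 323 = 30362)) rels_part94
    (by omega : 30362 + 323 = 30685)) rels_part95
    (by omega : 30685 + 323 = 31008)) rels_part96
    (by omega : 31008 + 323 = 31331)) rels_part97
    (by omega : 31331 + 323 = 31654)) rels_part98
    (by omega : 31654 + 17 = 31671))

theorem reach_ok : reachOK letters.K 31671 table parent = true := by decide +kernel

theorem letters_ok : letters.OK := by
  refine ⟨by decide +kernel, by decide +kernel, ?_, ?_, ?_⟩ <;> decide +kernel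

theorem table_ok : TableOK letters 31671 table where
  col a := by cases a <;> decide +kernel
  symcol := by decide +kernel
  invol := by decide +kernel
  perm := perm_ok
  rel l hl i hi := relsOK_rel rels_ok hi hl

/-- The enumerated index and action. -/
theorem enum : Enumerated letters
    (Cfsg.Spor.coxRelators Cfsg.Spor.Fi23.edges ∪ {r | r ∈ Cfsg.Spor.Fi23.extra})
    (subOf letters _ subWords) 31671 table :=
  enumerated letters _
    (sameRels_cox letters [Cfsg.Spor.Fi23.Gen.a, Cfsg.Spor.Fi23.Gen.b, Cfsg.Spor.Fi23.Gen.c, Cfsg.Spor.Fi23.Gen.d, Cfsg.Spor.Fi23.Gen.e, Cfsg.Spor.Fi23.Gen.f, Cfsg.Spor.Fi23.Gen.g, Cfsg.Spor.Fi23.Gen.j, Cfsg.Spor.Fi23.Gen.h, Cfsg.Spor.Fi23.Gen.i] _ _ rfl (by decide +kernel))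
    letters_ok 31671 table parent (by omega) table_ok reach_ok data 41896 211452 rfl subWords
    (by decide +kernel)
    (fun φ hφ => hφ ▸ Letters.valid (sameRels_cox letters [Cfsg.Spor.Fi23.Gen.a, Cfsg.Spor.Fi23.Gen.b, Cfsg.Spor.Fi23.Gen.c, Cfsg.Spor.Fi23.Gen.d, Cfsg.Spor.Fi23.Gen.e, Cfsg.Spor.Fi23.Gen.f, Cfsg.Spor.Fi23.Gen.g, Cfsg.Spor.Fi23.Gen.j, Cfsg.Spor.Fi23.Gen.h, Cfsg.Spor.Fi23.Gen.i] _ _ rfl
      (by decide +kernel)).1 letters_ok table_ok.col rfl rfl subWords (by decide +kernel) rfl rfl
      (by decide +kernel))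
    (fun φ hV => (chunks_sound hV part105 part105_ok.1 part105_ok.2
      (chunks_sound hV part104 part104_ok.1 part104_ok.2
      (chunks_sound hV part103 part103_ok.1 part103_ok.2
      (chunks_sound hV part102 part102_ok.1 part102_ok.2
      (chunks_sound hV part101 part101_ok.1 part101_ok.2
      (chunks_sound hV part100 part100_ok.1 part100_ok.2
      (chunks_sound hV part99 part99_ok.1 part99_ok.2
      (chunks_sound hV part98 part98_ok.1 part98_ok.2
      (chunks_sound hV part97 part97_ok.1 part97_ok.2
      (chunks_sound hV part96 part96_ok.1 part96_ok.2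
      (chunks_sound hV part95 part95_ok.1 part95_ok.2
      (chunks_sound hV part94 part94_ok.1 part94_ok.2
      (chunks_sound hV part93 part93_ok.1 part93_ok.2
      (chunks_sound hV part92 part92_ok.1 part92_ok.2
      (chunks_sound hV part91 part91_ok.1 part91_ok.2
      (chunks_sound hV part90 part90_ok.1 part90_ok.2
      (chunks_sound hV part89 part89_ok.1 part89_ok.2
      (chunks_sound hV part88 part88_ok.1 part88_ok.2
      (chunks_sound hV part87 part87_ok.1 part87_ok.2
      (chunks_sound hV part86 part86_ok.1 part86_ok.2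
      (chunks_sound hV part85 part85_ok.1 part85_ok.2
      (chunks_sound hV part84 part84_ok.1 part84_ok.2
      (chunks_sound hV part83 part83_ok.1 part83_ok.2
      (chunks_sound hV part82 part82_ok.1 part82_ok.2
      (chunks_sound hV part81 part81_ok.1 part81_ok.2
      (chunks_sound hV part80 part80_ok.1 part80_ok.2
      (chunks_sound hV part79 part79_ok.1 part79_ok.2
      (chunks_sound hV part78 part78_ok.1 part78_ok.2
      (chunks_sound hV part77 part77_ok.1 part77_ok.2
      (chunks_sound hV part76 part76_ok.1 part76_ok.2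
      (chunks_sound hV part75 part75_ok.1 part75_ok.2
      (chunks_sound hV part74 part74_ok.1 part74_ok.2
      (chunks_sound hV part73 part73_ok.1 part73_ok.2
      (chunks_sound hV part72 part72_ok.1 part72_ok.2
      (chunks_sound hV part71 part71_ok.1 part71_ok.2
      (chunks_sound hV part70 part70_ok.1 part70_ok.2
      (chunks_sound hV part69 part69_ok.1 part69_ok.2
      (chunks_sound hV part68 part68_ok.1 part68_ok.2
      (chunks_sound hV part67 part67_ok.1 part67_ok.2
      (chunks_sound hV part66 part66_ok.1 part66_ok.2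
      (chunks_sound hV part65 part65_ok.1 part65_ok.2
      (chunks_sound hV part64 part64_ok.1 part64_ok.2
      (chunks_sound hV part63 part63_ok.1 part63_ok.2
      (chunks_sound hV part62 part62_ok.1 part62_ok.2
      (chunks_sound hV part61 part61_ok.1 part61_ok.2
      (chunks_sound hV part60 part60_ok.1 part60_ok.2
      (chunks_sound hV part59 part59_ok.1 part59_ok.2
      (chunks_sound hV part58 part58_ok.1 part58_ok.2
      (chunks_sound hV part57 part57_ok.1 part57_ok.2
      (chunks_sound hV part56 part56_ok.1 part56_ok.2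
      (chunks_sound hV part55 part55_ok.1 part55_ok.2
      (chunks_sound hV part54 part54_ok.1 part54_ok.2
      (chunks_sound hV part53 part53_ok.1 part53_ok.2
      (chunks_sound hV part52 part52_ok.1 part52_ok.2
      (chunks_sound hV part51 part51_ok.1 part51_ok.2
      (chunks_sound hV part50 part50_ok.1 part50_ok.2
      (chunks_sound hV part49 part49_ok.1 part49_ok.2
      (chunks_sound hV part48 part48_ok.1 part48_ok.2
      (chunks_sound hV part47 part47_ok.1 part47_ok.2
      (chunks_sound hV part46 part46_ok.1 part46_ok.2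
      (chunks_sound hV part45 part45_ok.1 part45_ok.2
      (chunks_sound hV part44 part44_ok.1 part44_ok.2
      (chunks_sound hV part43 part43_ok.1 part43_ok.2
      (chunks_sound hV part42 part42_ok.1 part42_ok.2
      (chunks_sound hV part41 part41_ok.1 part41_ok.2
      (chunks_sound hV part40 part40_ok.1 part40_ok.2
      (chunks_sound hV part39 part39_ok.1 part39_ok.2
      (chunks_sound hV part38 part38_ok.1 part38_ok.2
      (chunks_sound hV part37 part37_ok.1 part37_ok.2
      (chunks_sound hV part36 part36_ok.1 part36_ok.2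
      (chunks_sound hV part35 part35_ok.1 part35_ok.2
      (chunks_sound hV part34 part34_ok.1 part34_ok.2
      (chunks_sound hV part33 part33_ok.1 part33_ok.2
      (chunks_sound hV part32 part32_ok.1 part32_ok.2
      (chunks_sound hV part31 part31_ok.1 part31_ok.2
      (chunks_sound hV part30 part30_ok.1 part30_ok.2
      (chunks_sound hV part29 part29_ok.1 part29_ok.2
      (chunks_sound hV part28 part28_ok.1 part28_ok.2
      (chunks_sound hV part27 part27_ok.1 part27_ok.2
      (chunks_sound hV part26 part26_ok.1 part26_ok.2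
      (chunks_sound hV part25 part25_ok.1 part25_ok.2
      (chunks_sound hV part24 part24_ok.1 part24_ok.2
      (chunks_sound hV part23 part23_ok.1 part23_ok.2
      (chunks_sound hV part22 part22_ok.1 part22_ok.2
      (chunks_sound hV part21 part21_ok.1 part21_ok.2
      (chunks_sound hV part20 part20_ok.1 part20_ok.2
      (chunks_sound hV part19 part19_ok.1 part19_ok.2
      (chunks_sound hV part18 part18_ok.1 part18_ok.2
      (chunks_sound hV part17 part17_ok.1 part17_ok.2
      (chunks_sound hV part16 part16_ok.1 part16_ok.2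
      (chunks_sound hV part15 part15_ok.1 part15_ok.2
      (chunks_sound hV part14 part14_ok.1 part14_ok.2
      (chunks_sound hV part13 part13_ok.1 part13_ok.2
      (chunks_sound hV part12 part12_ok.1 part12_ok.2
      (chunks_sound hV part11 part11_ok.1 part11_ok.2
      (chunks_sound hV part10 part10_ok.1 part10_ok.2
      (chunks_sound hV part9 part9_ok.1 part9_ok.2
      (chunks_sound hV part8 part8_ok.1 part8_ok.2
      (chunks_sound hV part7 part7_ok.1 part7_ok.2
      (chunks_sound hV part6 part6_ok.1 part6_ok.2
      (chunks_sound hV part5 part5_ok.1 part5_ok.2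
      (chunks_sound hV part4 part4_ok.1 part4_ok.2
      (chunks_sound hV part3 part3_ok.1 part3_ok.2
      (chunks_sound hV part2 part2_ok.1 part2_ok.2
      (chunks_sound hV part1 part1_ok.1 part1_ok.2
      (chunks_sound hV part0 part0_ok.1 part0_ok.2
      (fun i hi => good_defs defs_ok hi))))))))))))))))))))))))))))))))))))))))))))))))))))))))))))))))))))))))))))))))))))))))))))))))))))))))))))
    vert edge (by decide +kernel) edges_ok

/-- The relator set. -/
abbrev pres : Set (FreeGroup Cfsg.Spor.Fi23.Gen) := Cfsg.Spor.coxRelators Cfsg.Spor.Fi23.edges ∪ {r | r ∈ Cfsg.Spor.Fi23.extra}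

theorem rels_mem : ∀ r ∈ letters.rels, r ∈ pres :=
  (sameRels_cox letters [Cfsg.Spor.Fi23.Gen.a, Cfsg.Spor.Fi23.Gen.b, Cfsg.Spor.Fi23.Gen.c, Cfsg.Spor.Fi23.Gen.d, Cfsg.Spor.Fi23.Gen.e, Cfsg.Spor.Fi23.Gen.f, Cfsg.Spor.Fi23.Gen.g, Cfsg.Spor.Fi23.Gen.j, Cfsg.Spor.Fi23.Gen.h, Cfsg.Spor.Fi23.Gen.i] _ _ rfl (by decide +kernel)).1

/-- The statement's form of the subgroup. -/
theorem index_eq :
    ((Subgroup.closure ({Cfsg.Spor.Fi23.a, Cfsg.Spor.Fi23.b, Cfsg.Spor.Fi23.c, Cfsg.Spor.Fi23.d, Cfsg.Spor.Fi23.e, Cfsg.Spor.Fi23.f, Cfsg.Spor.Fi23.g, Cfsg.Spor.Fi23.h, Cfsg.Spor.Fi23.i} : Set (FreeGroup Cfsg.Spor.Fi23.Gen))).map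
      (PresentedGroup.mk (Cfsg.Spor.coxRelators Cfsg.Spor.Fi23.edges ∪ {r | r ∈ Cfsg.Spor.Fi23.extra}))).index = 31671 := by
  rw [map_closure_eq_subOf letters _ subWords (by decide +kernel) [Cfsg.Spor.Fi23.a, Cfsg.Spor.Fi23.b, Cfsg.Spor.Fi23.c, Cfsg.Spor.Fi23.d, Cfsg.Spor.Fi23.e, Cfsg.Spor.Fi23.f, Cfsg.Spor.Fi23.g, Cfsg.Spor.Fi23.h, Cfsg.Spor.Fi23.i] (by decide +kernel) _
    (by ext; simp)]
  exact enum.index

end Cfsg.Agent.Lib.CosetEnum.Fi23x31671
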