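import Cfsg.Agent.Lib.CosetEnum.Fi23x31671.Data

/-! Checks of the certificate. -/

set_option autoImplicit false
set_option maxRecDepth 20000
set_option Elab.async false

namespace Cfsg.Agent.Lib.CosetEnum.Fi23x31671

open Cfsg.Agent.Lib.CosetEnum

theorem rels_part6 : allFrom 1938 323 (relAt letters.K table letters.RL) = true := by decide +kernel

theorem rels_part7 : allFrom 2261 323 (relAt letters.K table letters.RL) = true := by decide +kernel

theorem rels_part8 : allFrom 2584 323 (relAt letters.K table letters.RL) = true := by decide +kernel

theorem rels_part9 : allFrom 2907 323 (relAt letters.K table letters.RL) = true := by decide +kernel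

theorem rels_part10 : allFrom 3230 323 (relAt letters.K table letters.RL) = true := by decide +kernel

theorem rels_part11 : allFrom 3553 323 (relAt letters.K table letters.RL) = true := by decide +kernel

end Cfsg.Agent.Lib.CosetEnum.Fi23x31671
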